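import Cfsg.Agent.MQ.S.E62Y.Rows
import Cfsg.Agent.BZ.T.Count_m3
import Cfsg.Agent.TAB.Eng.Map
import Cfsg.Agent.Characters.Linear
import Cfsg.Agent.MQ.S.E62X.CkA
import Cfsg.Agent.MQ.S.B.Tri
import Cfsg.Agent.TAB.Eng.Sep_m3
import Cfsg.Agent.Lib.FinFast
import Cfsg.Agent.Prune
set_option linter.all false
prune_inst 0x7f00000000000000000000000000000000000000000000000000000000000000000000000000000000000000000000000000000000000000000000000000000000000000000000000000000000000000003fffffffffdfffffffffffffffffbeffbdffffffff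
open scoped Cfsg.Agent.FastGrp

-- part: MO/S/E62Y/Col
section
/-!
# MO, `2.²E₆(2)` : class functions on the 128 columns (helper21)

* `OV C v` : the function with the values `v` is a generalized character; `OV.add`, `OV.smul`, `OV.congr`, `OV.sq`;
* `col_spec`, `card_ix`, `ix_z`, `sg_z` : the columns; `gen_prod` : the generators; `inner_H`, `inner_Y` : scalar products;
* `cl` : the closure properties; `finH_of` : the hypotheses of the abstract end.
-/

set_option autoImplicit false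
set_option maxRecDepth 100000
set_option Elab.async false

namespace Cfsg.Agent.MO.S.E62Y

open Cfsg Subgroup Finset Cfsg.Agent.TAB.Eng Cfsg.Agent.TAB.Use Cfsg.Agent.TAB.B.Fin Cfsg.Agent.BMy.Chr
open Cfsg.Agent.Characters Cfsg.Agent.Characters.Core Cfsg.Agent.Characters.Brauer Cfsg.Agent.BZ.C6
open scoped Classical

/-- the odd part of a row -/
noncomputable def gO (r c : ℕ) : ℤ := (rB r (uH.getD c (0, 0)).1 - rB r (uH.getD c (0, 0)).2) / 2

/-- the even part of a row -/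
noncomputable def gE (s c : ℕ) : ℤ := (rB s (uH.getD c (0, 0)).1 + rB s (uH.getD c (0, 0)).2) / 2

/-- the masses of the columns in `H` -/
def datH : Dat := ⟨128, 306129918735099415756800, List.replicate 128 0, wH, List.replicate 128 []⟩

/-- the masses of the columns in `Y` -/
def datY : Dat := ⟨68, 153064959367549707878400, List.replicate 68 0, wI.take 68, List.replicate 68 []⟩

theorem okLen_H : datH.okLen := ⟨by decide +kernel, by decide +kernel, by decide +kernel⟩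

theorem okLen_Y : datY.okLen := ⟨by decide +kernel, by decide +kernel, by decide +kernel⟩

private noncomputable def _root_.Cfsg.Agent.LsF.f605f90_0 : {f // @Cfsg.Agent.MO.S.E62Y.uH = f} := ⟨_, by first | (delta Cfsg.Agent.MO.S.E62Y.uH; rewrite [Cfsg.Agent.LsF.lappend_pat, Cfsg.Agent.LsF.take_eq]; exact rfl) | exact rfl⟩
private noncomputable def _root_.Cfsg.Agent.LsF.f605f90_1 : {f // @Cfsg.Agent.MO.S.E62Y.wH = f} := ⟨_, by first | (delta Cfsg.Agent.MO.S.E62Y.wH; rewrite [Cfsg.Agent.LsF.lappend_pat, Cfsg.Agent.LsF.take_eq]; exact rfl) | exact rfl⟩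
private noncomputable def _root_.Cfsg.Agent.LsF.f605f90_2 : {f // @Cfsg.Agent.TAB.Eng.Dat.cnt = f} := ⟨_, by first | (delta Cfsg.Agent.TAB.Eng.Dat.cnt; rewrite [Cfsg.Agent.LsF.getD_eq]; exact rfl) | exact rfl⟩
private noncomputable def _root_.Cfsg.Agent.LsF.f605f90_3 : {f // @Cfsg.Agent.MO.S.E62Y.datY = f} := ⟨_, by first | (delta Cfsg.Agent.MO.S.E62Y.datY; rewrite [Cfsg.Agent.LsF.replicate_eq, Cfsg.Agent.LsF.take_eq]; exact rfl) | exact rfl⟩
theorem uI_ok : uI.length = 170 ∧ uI.idxOf (0, 1) = 0 ∧ ∀ e < 170, if e < 68 then (uI.getD e (0, 0)).1 ≠ (uI.getD e (0, 0)).2 ∧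
    uH.getD e (0, 0) = uI.getD e (0, 0) ∧ wH.getD e 0 = wI.getD e 0 ∧ datY.cnt e = wI.getD e 0
    else wI.getD e 0 = 0 ∨ (uI.getD e (0, 0)).1 = (uI.getD e (0, 0)).2 := by (refine of_decide_eq_true ?_; (try (rewrite [Cfsg.Agent.LsF.f605f90_0.2, Cfsg.Agent.LsF.f605f90_1.2, Cfsg.Agent.LsF.f605f90_2.2, Cfsg.Agent.LsF.f605f90_3.2, Cfsg.Agent.LsF.instNBEq_pat, Cfsg.Agent.LsF.dProdEq_eq, Cfsg.Agent.LsF.instDecEq_eq, Cfsg.Agent.LsF.decLt_eq, Cfsg.Agent.LsF.getD_eq, Cfsg.Agent.LsF.idxOf_eq, Cfsg.Agent.LsF.dAnd_eq, Cfsg.Agent.LsF.dOr_eq, Cfsg.Agent.LsF.dNot_eq, Cfsg.Agent.LsF.dBallLT_eq, Cfsg.Agent.LsF.instPBEq_eq, Cfsg.Agent.LsF.length_eq, Cfsg.Agent.LsF.decide_eq])); decide +kernel)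

theorem uO_ok : uO.length = 158 ∧ ∀ e < 158, if e < 60 then (uO.getD e (0, 0)).1 ≠ (uO.getD e (0, 0)).2 ∧
    uH.getD (68 + e) (0, 0) = uO.getD e (0, 0) ∧ wH.getD (68 + e) 0 = wO.getD e 0
    else wO.getD e 0 = 0 ∨ (uO.getD e (0, 0)).1 = (uO.getD e (0, 0)).2 := by (refine of_decide_eq_true ?_; (try (rewrite [Cfsg.Agent.LsF.f605f90_0.2, Cfsg.Agent.LsF.f605f90_1.2, Cfsg.Agent.LsF.nadd_pat, Cfsg.Agent.LsF.dProdEq_eq, Cfsg.Agent.LsF.instDecEq_eq, Cfsg.Agent.LsF.decLt_eq, Cfsg.Agent.LsF.getD_eq, Cfsg.Agent.LsF.dAnd_eq, Cfsg.Agent.LsF.dOr_eq, Cfsg.Agent.LsF.dNot_eq, Cfsg.Agent.LsF.dBallLT_eq, Cfsg.Agent.LsF.length_eq, Cfsg.Agent.LsF.decide_eq])); decide +kernel)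

private noncomputable def _root_.Cfsg.Agent.LsF.f605f90_4 : {f // @Cfsg.Agent.TAB.Eng.allL = f} := ⟨_, by first | (delta Cfsg.Agent.TAB.Eng.allL; rewrite [Cfsg.Agent.LsF.cond_eq]; exact rfl) | exact rfl⟩
private noncomputable def _root_.Cfsg.Agent.LsF.f605f90_5 : {f // @Cfsg.Agent.TAB.Eng.sqs = f} := ⟨_, by first | (delta Cfsg.Agent.TAB.Eng.sqs; rewrite [Cfsg.Agent.LsF.iadd_eq, Cfsg.Agent.LsF.imul_eq]; exact rfl) | exact rfl⟩
private noncomputable def _root_.Cfsg.Agent.LsF.f605f90_6 : {f // @Cfsg.Agent.TAB.Eng.qsum = f} := ⟨_, by first | (delta Cfsg.Agent.TAB.Eng.qsum; rewrite [Cfsg.Agent.LsF.f605f90_5.2, Cfsg.Agent.LsF.iadd_eq, Cfsg.Agent.LsF.imul_eq]; exact rfl) | exact rfl⟩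
private noncomputable def _root_.Cfsg.Agent.LsF.f605f90_7 : {f // @Cfsg.Agent.TAB.Eng.hor = f} := ⟨_, by first | (delta Cfsg.Agent.TAB.Eng.hor; rewrite [Cfsg.Agent.LsF.iadd_eq, Cfsg.Agent.LsF.imul_eq]; exact rfl) | exact rfl⟩
private noncomputable def _root_.Cfsg.Agent.LsF.f605f90_8 : {f // @Cfsg.Agent.TAB.Eng.gRow = f} := ⟨_, by first | (delta Cfsg.Agent.TAB.Eng.gRow; rewrite [Cfsg.Agent.LsF.and_eq, Cfsg.Agent.LsF.not_eq, Cfsg.Agent.LsF.cond_eq]; exact rfl) | exact rfl⟩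
private noncomputable def _root_.Cfsg.Agent.LsF.f605f90_9 : {f // @Cfsg.Agent.TAB.Eng.cmpG = f} := ⟨_, by first | (delta Cfsg.Agent.TAB.Eng.cmpG; rewrite [Cfsg.Agent.LsF.f605f90_7.2, Cfsg.Agent.LsF.f605f90_8.2, Cfsg.Agent.LsF.cond_eq, Cfsg.Agent.LsF.imul_eq, Cfsg.Agent.LsF.instIDecEq_eq, Cfsg.Agent.LsF.decide_eq]; exact rfl) | exact rfl⟩
private noncomputable def _root_.Cfsg.Agent.LsF.f605f90_10 : {f // @Cfsg.Agent.TAB.Eng.axz = f} := ⟨_, by first | (delta Cfsg.Agent.TAB.Eng.axz; rewrite [Cfsg.Agent.LsF.iadd_eq, Cfsg.Agent.LsF.imul_eq]; exact rfl) | exact rfl⟩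
private noncomputable def _root_.Cfsg.Agent.LsF.f605f90_11 : {f // @Cfsg.Agent.TAB.Eng.accV = f} := ⟨_, by first | (delta Cfsg.Agent.TAB.Eng.accV; rewrite [Cfsg.Agent.LsF.f605f90_7.2, Cfsg.Agent.LsF.f605f90_10.2, Cfsg.Agent.LsF.imul_eq]; exact rfl) | exact rfl⟩
private noncomputable def _root_.Cfsg.Agent.LsF.f605f90_12 : {f // @Cfsg.Agent.TAB.Eng.chkG = f} := ⟨_, by first | (delta Cfsg.Agent.TAB.Eng.chkG; rewrite [Cfsg.Agent.LsF.f605f90_4.2, Cfsg.Agent.LsF.f605f90_6.2, Cfsg.Agent.LsF.f605f90_9.2, Cfsg.Agent.LsF.f605f90_11.2, Cfsg.Agent.LsF.iadd_pat, Cfsg.Agent.LsF.imul_pat, Cfsg.Agent.LsF.icast_pat, Cfsg.Agent.LsF.and_eq, Cfsg.Agent.LsF.map_eq, Cfsg.Agent.LsF.idecLt_eq, Cfsg.Agent.LsF.length_eq, Cfsg.Agent.LsF.decide_eq]; exact rfl) | exact rfl⟩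
private noncomputable def _root_.Cfsg.Agent.LsF.f605f90_13 : {f // @Cfsg.Agent.MO.S.E62Y.nrm = f} := ⟨_, by first | (delta Cfsg.Agent.MO.S.E62Y.nrm; rewrite [Cfsg.Agent.LsF.instDecEq_eq, Cfsg.Agent.LsF.decLt_eq, Cfsg.Agent.LsF.ite_eq]; exact rfl) | exact rfl⟩
theorem gram_ok : chkG datY (colF.take 68) ((List.range 68).map fun j => (nrm j, 0)) 4 (3 ^ 55) = true := by ((try (rewrite [Cfsg.Agent.LsF.f605f90_12.2, Cfsg.Agent.LsF.f605f90_3.2, Cfsg.Agent.LsF.f605f90_13.2, Cfsg.Agent.LsF.npow_pat, Cfsg.Agent.LsF.map_eq, Cfsg.Agent.LsF.range_eq, Cfsg.Agent.LsF.take_eq])); decide +kernel)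

private noncomputable def _root_.Cfsg.Agent.LsF.f605f90_14 : {f // @Cfsg.Agent.TAB.Eng.Dat.ord = f} := ⟨_, by first | (delta Cfsg.Agent.TAB.Eng.Dat.ord; rewrite [Cfsg.Agent.LsF.getD_eq]; exact rfl) | exact rfl⟩
theorem row_ok : (∀ j < 68, mF ((List.range 68).map fun j => (nrm j, 0)) j = nrm j ∧
    sF ((List.range 68).map fun j => (nrm j, 0)) j = 0 ∧ rw colF j 0 = dgL.getD j 0) ∧
    (∀ c < 68, ntd (colF.take 68) [] c = ntd colF [] c) ∧ (∀ c < 60, ∀ j < 8, rw colF (59 + j) (68 + c) = 0) ∧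
    datF.ord 0 = 1 ∧ ∀ t < 175, datF.ord t = 1 → t = 0 := by (refine of_decide_eq_true ?_; (try (rewrite [Cfsg.Agent.LsF.f605f90_13.2, Cfsg.Agent.LsF.f605f90_14.2, Cfsg.Agent.LsF.nadd_pat, Cfsg.Agent.LsF.icast_pat, Cfsg.Agent.LsF.instDecEq_eq, Cfsg.Agent.LsF.map_eq, Cfsg.Agent.LsF.range_eq, Cfsg.Agent.LsF.take_eq, Cfsg.Agent.LsF.getD_eq, Cfsg.Agent.LsF.instIDecEq_eq, Cfsg.Agent.LsF.dAnd_eq, Cfsg.Agent.LsF.dListEq_eq, Cfsg.Agent.LsF.dBallLT_eq, Cfsg.Agent.LsF.dAllP_eq, Cfsg.Agent.LsF.decide_eq])); decide +kernel)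

/-- the sign of a subgroup of index two -/
theorem gen_sign {K : Type} [Group K] {Y : Subgroup K} (h : Y.index = 2) :
    IsGeneralizedCharacter K fun x => ((if x ∈ Y then 1 else -1 : ℤ) : ℂ) :=
  isGeneralizedCharacter_of_isCharacter (Linear.isCharacter_hom (MonoidHom.toHomUnits
    (⟨⟨fun x => ((if x ∈ Y then 1 else -1 : ℤ) : ℂ), by simp⟩, fun x y => by
      simp only [mul_mem_iff_of_index_two h]
      by_cases h1 : x ∈ Y <;> by_cases h2 : y ∈ Y <;> simp [h1, h2]⟩ : K →* ℂ)))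

variable {G : Type} [Group G] [Fintype G] {C : Cx G} {v w : ℕ → ℤ}

/-- the function with the values `v` is a generalized character -/
def OV (C : Cx G) (v : ℕ → ℤ) : Prop := IsGeneralizedCharacter C.H (C.fn v)

theorem fn_congr (h : ∀ c < 128, v c = w c) : C.fn v = C.fn w := funext fun x => by
  rw [Cx.fn, Cx.fn, Cx.sg]
  split_ifs with h1 h2
  exacts [by rw [h _ h1], by rw [h _ h1], by rw [zero_mul, zero_mul]]

theorem fn_add (v w : ℕ → ℤ) (x : C.H) : C.fn (fun c => v c + w c) x = C.fn v x + C.fn w x := by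
  simp only [Cx.fn, mul_add, Int.cast_add]

theorem fn_smul (k : ℤ) (v : ℕ → ℤ) (x : C.H) : C.fn (fun c => k * v c) x = k * C.fn v x := by
  simp only [Cx.fn, mul_left_comm _ k, Int.cast_mul (m := k)]

theorem OV.congr (h1 : OV C v) (h : ∀ c < 128, v c = w c) : OV C w := by rwa [OV, ← fn_congr h]

theorem OV.add (h1 : OV C v) (h2 : OV C w) : OV C fun c => v c + w c := by
  rw [OV, funext (fn_add v w)]
  exact isGeneralizedCharacter_add h1 h2

theorem OV.smul (k : ℤ) (h : OV C v) : OV C fun c => k * v c := by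
  rw [OV, funext (fn_smul k v)]
  exact isGeneralizedCharacter_mul (gen_const C.H k) h

theorem OV.zero : OV C fun _ => 0 := by
  rw [OV, show C.fn (fun _ => 0) = 0 from funext fun x => by simp [Cx.fn]]
  exact isGeneralizedCharacter_zero

theorem z_cen : C.z ∈ center C.H := mem_center_iff.2 fun g => Subtype.ext (mem_centralizer_singleton_iff.1 g.2)

theorem z_z : C.z * C.z = 1 := Subtype.ext C.h2

theorem a_z (x : C.H) : C.a (C.z * x) = C.b x := by
  rw [← mem_center_iff.1 z_cen]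
  rfl

theorem b_z (x : C.H) : C.b (C.z * x) = C.a x := by
  rw [← mem_center_iff.1 z_cen, Cx.b, Subgroup.coe_mul, mul_assoc, show (C.z : G) * C.t = 1 from C.h2, mul_one, Cx.a]

theorem ix_z (x : C.H) : C.ix (C.z * x) = C.ix x := by
  have h : C.pr (C.z * x) = C.pr x := by rw [Cx.pr, Cx.pr, a_z, b_z, min_comm, max_comm]
  rw [Cx.ix, Cx.ix, h]
  exact if_congr (C.Y.mul_mem_cancel_left (show C.z ∈ C.Y from C.hz)) rfl rfl

theorem ix_lt {x : C.H} (h : C.ix x < 128) : x ∈ C.Y ↔ C.ix x < 68 := by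
  rw [Cx.ix] at h ⊢
  split_ifs at h ⊢ with h1 <;> simp only [h1, true_iff, false_iff] <;> omega

theorem card_Y : Nat.card C.Y = 153064959367549707878400 := by
  have h := C.Y.card_mul_index
  rw [C.hY, C.hC] at h
  omega

theorem ty_one : C.T.ty 1 = 0 := row_ok.2.2.2.2 _ (C.T.lt 1) ((C.T.ord 1).symm.trans orderOf_one)

theorem pr_one : C.a 1 = 0 ∧ C.b 1 = 1 :=
  ⟨ty_one, (C.hA _).2 (by rw [Subgroup.coe_one, one_mul])⟩

theorem ix_one : C.ix 1 = 0 := by
  rw [Cx.ix, if_pos (one_mem _), Cx.pr, pr_one.1, pr_one.2, show (min 0 1, max 0 1) = (0, 1) from rfl, uI_ok.2.1]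
  rfl

variable (hI : C.PairI) (hO : C.PairO)
include hI hO

/-- **the columns** -/
theorem col_spec (x : C.H) :
    (C.ix x < 128 ∧ uH.getD (C.ix x) (0, 0) = C.pr x ∧ C.a x ≠ C.b x ∧ (x ∈ C.Y ↔ C.ix x < 68)) ∨
      (C.ix x = 128 ∧ C.a x = C.b x) := by
  have h0 : (C.pr x).1 = (C.pr x).2 ↔ C.a x = C.b x := by
    rw [Cx.pr]
    omega
  have h1 : ∀ {l : List (ℕ × ℕ)}, C.pr x ∈ l → l.idxOf (C.pr x) < l.length ∧ l.getD (l.idxOf (C.pr x)) (0, 0) = C.pr x :=
    fun h => ⟨List.idxOf_lt_length_iff.2 h, by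
      rw [List.getD_eq_getElem _ _ (List.idxOf_lt_length_iff.2 h), List.getElem_idxOf]⟩
  rw [or_iff_not_imp_right, ← h0]
  intro h
  suffices h2 : C.ix x < 128 ∧ uH.getD (C.ix x) (0, 0) = C.pr x ∧ (C.pr x).1 ≠ (C.pr x).2 from
    ⟨h2.1, h2.2.1, fun e => h2.2.2 (h0.2 e), ix_lt h2.1⟩
  rw [Cx.ix] at h ⊢
  by_cases hx : x ∈ C.Y
  · obtain ⟨h2, h3⟩ := h1 (hI.1 x hx)
    rw [uI_ok.1] at h2
    have h4 := uI_ok.2.2 _ h2
    rw [if_pos hx] at h ⊢
    split_ifs at h h4 ⊢ with h5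
    · exact ⟨by omega, h4.2.1.trans h3, h3 ▸ h4.1⟩
    · exact absurd ⟨rfl, h3 ▸ h4.resolve_left (hI.2 _ h2 ▸ card_ne_zero.2 ⟨x, mem_filter.2 ⟨mem_univ _, hx, rfl⟩⟩)⟩ h
  · obtain ⟨h2, h3⟩ := h1 (hO.1 x hx)
    rw [uO_ok.1] at h2
    have h4 := uO_ok.2 _ h2
    rw [if_neg hx] at h ⊢
    split_ifs at h h4 ⊢ with h5
    · exact ⟨by omega, h4.2.1.trans h3, h3 ▸ h4.1⟩
    · exact absurd ⟨rfl, h3 ▸ h4.resolve_left (hO.2 _ h2 ▸ card_ne_zero.2 ⟨x, mem_filter.2 ⟨mem_univ _, hx, rfl⟩⟩)⟩ h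

theorem card_ix {e : ℕ} (he : e < 128) : #{x : C.H | C.ix x = e} = wH.getD e 0 := by
  rcases lt_or_ge e 68 with h | h
  · have h1 := uI_ok.2.2 e (by omega)
    rw [if_pos h] at h1
    rw [h1.2.2.1, ← hI.2 e (by omega)]
    refine congrArg card (filter_congr fun x _ => ?_)
    rw [Cx.ix]
    split_ifs with h2 <;> simp only [h2, true_and, false_and, iff_false] <;> omega
  · obtain ⟨e, rfl⟩ := Nat.exists_eq_add_of_le h
    have h1 := uO_ok.2 e (by omega)
    rw [if_pos (by omega)] at h1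
    rw [h1.2.2, ← hO.2 e (by omega)]
    refine congrArg card (filter_congr fun x _ => ?_)
    rw [Cx.ix]
    split_ifs with h2 <;> simp only [h2, not_true, not_false_iff, true_and, false_and, iff_false] <;> omega

theorem sg_z (x : C.H) : C.sg (C.z * x) = -C.sg x := by
  rw [Cx.sg, Cx.sg, ix_z, a_z, b_z]
  rcases col_spec hI hO x with h | h
  · have := h.2.2.1
    rw [if_pos h.1, if_pos h.1]
    split_ifs <;> omega
  · rw [h.1, if_neg (lt_irrefl _), if_neg (lt_irrefl _), neg_zero]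

omit hI hO in
theorem fn_mul (v w : ℕ → ℤ) (x : C.H) : C.fn v x * (starRingEnd ℂ) (C.fn w x) =
    ∑ e ∈ range 128, if C.ix x = e then ((v e * w e : ℤ) : ℂ) else 0 := by
  rw [sum_ite_eq, Cx.fn, Cx.fn, map_intCast, Cx.sg]
  simp only [mem_range]
  split_ifs <;> simp

theorem inner_H (v w : ℕ → ℤ) : classInner (C.fn v) (C.fn w) =
    ((∑ e ∈ range 128, (wH.getD e 0 : ℤ) * (v e * w e) : ℤ) : ℂ) / 306129918735099415756800 := by
  rw [classInner_def, C.hC, sum_congr rfl fun x _ => fn_mul v w x, sum_comm, div_eq_inv_mul, Int.cast_sum, Nat.cast_ofNat]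
  refine congrArg _ (sum_congr rfl fun e he => ?_)
  rw [← sum_filter, sum_const, card_ix hI hO (mem_range.1 he), nsmul_eq_mul, Int.cast_mul (wH.getD e 0 : ℤ), Int.cast_natCast]

theorem inner_Y (v w : ℕ → ℤ) : classInner (fun y : C.Y => C.fn v y) (fun y : C.Y => C.fn w y) =
    ((∑ e ∈ range 68, (wH.getD e 0 : ℤ) * (v e * w e) : ℤ) : ℂ) / 153064959367549707878400 := by
  rw [classInner_def, card_Y, ← sum_subtype (univ.filter (· ∈ C.Y)) (by simp) fun x => C.fn v x * (starRingEnd ℂ) (C.fn w x),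
    sum_filter, sum_congr rfl (g := fun x => ∑ e ∈ range 68, if C.ix x = e then ((v e * w e : ℤ) : ℂ) else 0) fun x _ => ?_,
    sum_comm, div_eq_inv_mul, Int.cast_sum, Nat.cast_ofNat]
  · refine congrArg _ (sum_congr rfl fun e he => ?_)
    rw [← sum_filter, sum_const, card_ix hI hO ((mem_range.1 he).trans (by norm_num)), nsmul_eq_mul,
      Int.cast_mul (wH.getD e 0 : ℤ), Int.cast_natCast]
  · simp only [fn_mul, sum_ite_eq, mem_range]
    rcases col_spec hI hO x with h | h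
    · rw [if_pos h.1, if_congr h.2.2.2 rfl rfl]
    · simp [h.1]

theorem OV.sq {f : Fin 5 → ℕ → ℤ} (hG : ∀ i j, ∑ e ∈ range 128, (wH.getD e 0 : ℤ) * (f i e * f j e) =
      if i = j then 306129918735099415756800 else 0)
    (h0 : OV C fun c => 2 * v c) (h : ∀ i, (OV C fun c => f i c - v c) ∨ OV C fun c => f i c + v c) : OV C v := by
  refine gen_of_sq (G := C.H) (l := 2) two_pos (by norm_num) (fun i => C.fn (f i)) (C.fn v) (fun i j => ?_) ?_ fun i => (h i).imp
    (fun h1 => ?_) fun h1 => ?_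
  · rw [inner_H hI hO, hG i j]
    split_ifs <;> simp
  · rw [OV, funext (fn_smul 2 v)] at h0
    exact_mod_cast h0
  · refine (congrArg (IsGeneralizedCharacter C.H) (funext fun x => ?_)).mp h1
    simp only [Cx.fn, mul_sub, Int.cast_sub]
  · rwa [OV, funext (fn_add (f i) v)] at h1

/-- **the generators** -/
theorem gen_prod {r s : ℕ} (hr : r < 175) (hs : s < 175) (e : Bool) :
    OV C fun c => gO r c * gE s c * (if e = true ∧ 68 ≤ c then -1 else 1) := by
  obtain ⟨χ, hχ⟩ := rt_of_tab C.hT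
  have h1 : ∀ {k}, k < 175 → ∀ {ε : ℤ}, ε = 1 ∨ ε = -1 →
      IsCharacter C.H fun x => (((rB k (C.a x) + ε * rB k (C.b x)) / 2 : ℤ) : ℂ) := fun {k} hk ε hε => by
    have h2 := isChar_pt z_cen z_z (ε := ε) (by exact_mod_cast hε) (isCharacter_comp (centralizer {C.t}).subtype (hχ.isChar hk))
    refine (congrArg (IsCharacter C.H) (funext fun x => ?_)).mp h2
    have h3 : pt C.z ε ((fun g => (rB k (C.T.ty g) : ℂ)) ∘ (centralizer {C.t}).subtype) x =
        ((rB k (C.a x) + ε * rB k (C.b x) : ℤ) : ℂ) / 2 := by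
      push_cast
      rfl
    rw [h3, Int.cast_div (Int.dvd_of_emod_eq_zero (even_of_integral (GaloisBasic.isIntegral_apply h2 x)
      (by rw [h3, add_halves]))) (by norm_num), Int.cast_ofNat]
  have h2 : IsGeneralizedCharacter C.H fun x => ((if e = true ∧ x ∉ C.Y then -1 else 1 : ℤ) : ℂ) := by
    cases e
    · simpa using gen_const C.H 1
    · simpa only [true_and, ite_not] using gen_sign C.hY
  refine (congrArg (IsGeneralizedCharacter C.H) (funext fun x => ?_)).mp (isGeneralizedCharacter_mul (isGeneralizedCharacter_mul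
    (isGeneralizedCharacter_of_isCharacter (h1 hr (Or.inr rfl))) (isGeneralizedCharacter_of_isCharacter (h1 hs (Or.inl rfl)))) h2)
  have h3 := Int.dvd_of_emod_eq_zero (even_of_integral (w := rB r (C.a x) - rB r (C.b x))
    (GaloisBasic.isIntegral_apply (isChar_pt z_cen z_z (Or.inr rfl)
      (isCharacter_comp (centralizer {C.t}).subtype (hχ.isChar hr))) x) (by
    rw [pt, add_halves, neg_one_mul, Int.cast_sub, sub_eq_add_neg]
    rfl))
  simp only [Pi.mul_apply, ← Int.cast_mul, Cx.fn, Int.cast_inj, Cx.sg, gO, gE]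
  rcases col_spec hI hO x with h | h
  · rw [if_pos h.1, h.2.1, Cx.pr, if_congr (and_congr_right fun _ => h.2.2.2.not.trans not_lt) rfl rfl, one_mul, neg_one_mul]
    generalize (if e = true ∧ 68 ≤ C.ix x then (-1 : ℤ) else 1) = σ
    split_ifs with h4
    · rw [min_eq_left h4, max_eq_right h4, one_mul, sub_eq_add_neg]
    · rw [min_eq_right (le_of_not_ge h4), max_eq_left (le_of_not_ge h4), add_comm (rB s (C.b x)),
        show (rB r (C.b x) - rB r (C.a x)) / 2 = -((rB r (C.a x) + -rB r (C.b x)) / 2) by omega]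
      ring
  · rw [h.1, if_neg (lt_irrefl _), h.2]
    simp

/-- **the closure properties** -/
theorem cl : Cl (OV C) :=
  ⟨fun _ _ c h1 h2 => h1.add (h2.smul c), fun _ _ => OV.congr, fun q h1 h2 => gen_prod hI hO h1 h2 q.2.2,
    fun _ _ => OV.sq hI hO⟩

/-- **the hypotheses of the abstract end** -/
theorem finH_of (gen : ∀ j < 68, OV C (rw colF j)) (cen : ∀ y : C.Y, y ∈ center C.Y ↔ y.1 = 1 ∨ y.1 = C.z)
    (c19 : ∀ y : C.Y, orderOf y = 19 → Nat.card (centralizer ({y} : Set C.Y)) ≤ 38) :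
    FinH C.H C.Y C.z fun j => C.fn (rw colF j) where
  idx := C.hY
  card := card_Y
  z1 h := absurd (pr_one.1.symm.trans ((congrArg C.a (by rw [h, mul_one])).trans ((a_z 1).trans pr_one.2))) zero_ne_one
  zz := z_z
  zc := z_cen
  zY := C.hz
  cen := cen
  c19 := c19
  gen := gen
  odd j _ x := by rw [Cx.fn, Cx.fn, ix_z, sg_z hI hO, neg_mul, Int.cast_neg]
  gram i hi j hj := by
    have h := (gram_of_chkG okLen_Y gram_ok).2 i (by simpa using hi) j (by simpa using hj)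
    rw [gam, (row_ok.1 i hi).1, (row_ok.1 i hi).2.1, if_neg (fun h : 0 = _ ∧ 0 ≠ 0 => h.2 rfl)] at h
    rw [inner_Y hI hO, show ∑ e ∈ range 68, _ = _ from (sum_congr rfl fun e he => ?_).trans h]
    · split_ifs <;> simp [datY]
    · have h1 := uI_ok.2.2 e ((mem_range.1 he).trans (by norm_num))
      rw [if_pos (mem_range.1 he)] at h1
      rw [h1.2.2.1, h1.2.2.2, rw, rw, rw, rw, row_ok.2.1 e (mem_range.1 he)]
  van j h1 h2 x hx := by
    rw [Cx.fn, Int.cast_eq_zero]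
    rcases col_spec hI hO x with h | h
    · obtain ⟨c, hc⟩ := Nat.exists_eq_add_of_le (not_lt.1 (h.2.2.2.not.1 hx))
      obtain ⟨j, rfl⟩ := Nat.exists_eq_add_of_le h1
      rw [hc, row_ok.2.2.1 c (by omega) j (by omega), mul_zero]
    · rw [Cx.sg, h.1, if_neg (lt_irrefl _), zero_mul]
  deg j hj := by
    rw [Cx.fn, Cx.sg, ix_one, if_pos (by norm_num), pr_one.1, if_pos (Nat.zero_le _), one_mul, (row_ok.1 j hj).2.2,
      Int.cast_natCast]

end Cfsg.Agent.MO.S.E62Y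
end

-- part: MO/S/E62X/CkB
section
/-!
# `6.²E₆(2)` : the enumeration of the short vectors of the dual lattice (helper13)
-/

set_option autoImplicit false
set_option Elab.async false

namespace Cfsg.Agent.MO.S.E62X

theorem pt3 : pt 3 = true := Q5.part_of Q5.all

theorem pt4 : pt 4 = true := Q5.part_of Q5.all

end Cfsg.Agent.MO.S.E62X
end

-- part: MO/S/E62Q/Cert
section
/-!
# MO, `6.²E₆(2)` : the count from the seeds (helper21)
-/

set_option autoImplicit false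
set_option maxRecDepth 100000

namespace Cfsg.Agent.MO.S.E62Q

open Cfsg Subgroup Finset Cfsg.Agent.TAB.Eng Cfsg.Agent.TAB.Cov Cfsg.Agent.MO.S.E62Y Cfsg.Agent.MO.S.E62X
open Cfsg.Agent.Characters Cfsg.Agent.Characters.Core Cfsg.Agent.Characters.Brauer
open scoped Classical ComplexConjugate

theorem dat : (∀ t ∈ s3L, nth m3 t = 1) ∧ (∀ t ∈ exL, nth mi t = 1) ∧ bv = bL ∧ DX.cntL.length = DX.n ∧
    ∀ e < 68, DX.cnt e = wH.getD e 0 := by (refine of_decide_eq_true ?_; (try (rewrite [Cfsg.Agent.LsF.f605f90_2.2, Cfsg.Agent.LsF.f605f90_1.2, Cfsg.Agent.LsF.instDecEq_eq, Cfsg.Agent.LsF.getD_eq, Cfsg.Agent.LsF.instIDecEq_eq, Cfsg.Agent.LsF.dAnd_eq, Cfsg.Agent.LsF.dBAll_eq, Cfsg.Agent.LsF.dListEq_eq, Cfsg.Agent.LsF.dBallLT_eq, Cfsg.Agent.LsF.length_eq, Cfsg.Agent.LsF.decide_eq])); decide +kernel)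

theorem zero_of {m p : List ℤ} (h : allL (fun x => decide (x = 0)) (Cov2.mulL m p) = true) {t : ℕ} (ht : nth m t = 1) :
    nth p t = 0 := by
  have h1 := Cov2.nth_mulL m p t
  rw [ht, one_mul, nth_eq (Cov2.mulL m p), List.getD_eq_getElem?_getD] at h1
  rw [← h1]
  cases e : (Cov2.mulL m p)[t]? with
  | none => rfl
  | some x => exact of_decide_eq_true (allL_spec h x (List.mem_of_getElem? e))

theorem exists_fl {Y : Type} [Group Y] (h : Nat.card (center Y) = 2) : ∃ l, Fl Y l := by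
  obtain ⟨z, h1, h2⟩ := (Nat.card_eq_two_iff' (1 : center Y)).1 h
  have h3 : ∀ w : center Y, w = 1 ∨ w = z := fun w => (em (w = 1)).imp_right (h2 w)
  have h4 : z * z = 1 := (h3 (z * z)).resolve_right fun e => h1 (mul_eq_left.1 e)
  let μ : center Y →* ℂˣ := MonoidHom.mk' (fun w => if w = 1 then 1 else -1) fun a b => by
    rcases h3 a with rfl | rfl <;> rcases h3 b with rfl | rfl <;>
      simp only [h4, h1, one_mul, mul_one, if_true, if_false, neg_mul_neg]
  refine ⟨fun x => if h : x ∈ center Y then μ ⟨x, h⟩ else 0, μ, (injective_iff_map_eq_one μ).2 fun w hw => ?_,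
    fun w => dif_pos w.2⟩
  by_contra e
  exact absurd (congrArg Units.val ((if_neg e).symm.trans hw)) (by norm_num)

variable {B : Type} [Group B] [Fintype B] {C : Cx B}

theorem fn_Y {v w : ℕ → ℤ} (h : ∀ t < 68, v t = w t) (y : C.Y) : C.fn v y = C.fn w y := by
  rw [Cx.fn, Cx.fn, Cx.sg]
  split_ifs with h1 h2
  exacts [by rw [h _ ((ix_lt h1).1 y.2)], by rw [h _ ((ix_lt h1).1 y.2)], by rw [zero_mul, zero_mul]]

theorem oy_row (h : FinH C.H C.Y C.z fun j => C.fn (rw colF j)) (j : ℕ) :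
    OY C (nth (ntd ((List.range 68).map rowX) [] j)) := by
  rcases ntd_mem ((List.range 68).map rowX) [] j with e | e
  · rw [e]
    refine (congrArg (IsGeneralizedCharacter C.Y) (funext fun x => ?_)).mp isGeneralizedCharacter_zero
    simp [Cx.fn, nth_nil]
  · obtain ⟨k, hk, e⟩ := List.mem_map.1 e
    rw [← e]
    by_cases h1 : k = 59
    · obtain ⟨l, hl⟩ := exists_fl h.card_cen
      refine (congrArg (IsGeneralizedCharacter C.Y) (funext fun x => ?_)).mp (h.half0 hl)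
      rw [div_eq_iff two_ne_zero, mul_comm, ← Int.cast_ofNat (R := ℂ) 2, ← fn_smul]
      exact fn_Y (fun t ht => by rw [rowX, nth_map_range _ ht, if_pos h1, h1]; exact (half_ok t ht).symm) x
    · refine (congrArg (IsGeneralizedCharacter C.Y) (funext fun x => ?_)).mp (gen_res (h.gen k (List.mem_range.1 hk)))
      exact fn_Y (fun t ht => by rw [rowX, nth_map_range _ ht, if_neg h1]) x

theorem oy_comb {R : List (List ℤ)} (h : ∀ j, OY C (nth (ntd R [] j))) (c : List (ℤ × ℕ)) : OY C (nth (comb R c)) := by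
  induction c with
  | nil =>
    refine (congrArg (IsGeneralizedCharacter C.Y) (funext fun x => ?_)).mp isGeneralizedCharacter_zero
    simp [Cx.fn, comb, nth_nil]
  | cons p c ih =>
    refine (congrArg (IsGeneralizedCharacter C.Y) (funext fun x => ?_)).mp
      (isGeneralizedCharacter_add (isGeneralizedCharacter_mul (gen_const C.Y p.1) (h p.2)) ih)
    rw [funext (nth_comb_cons R p c), fn_add, fn_smul]
    rfl

/-- **the certificate** -/
theorem cert (hI : C.PairI) (hO : C.PairO) (h : FinH C.H C.Y C.z fun j => C.fn (rw colF j)) : Cert C := by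
  intro X _ _ a l u ha hk hc hl S
  have := Fintype.ofFinite X
  have hn : Nat.card X = 459194878102649123635200 := by rw [B2.card_surj ha, hk, h.card]
  have H : Ln fun (v : List ℤ) (x : X) => u x * C.fn (nth v) (a x) :=
    ⟨funext fun x => by simp [Cx.fn, nth_nil], fun b c v vs => funext fun x => by
      rw [funext (nth_lin_cons b c v vs), fn_add, fn_smul, Pi.add_apply, Pi.smul_apply, smul_eq_mul, mul_add, mul_left_comm]⟩
  have hG : ∀ v w : List ℤ, (DX.N : ℂ) * classInner (fun x => u x * C.fn (nth v) (a x))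
      (fun x => u x * C.fn (nth w) (a x)) = ip DX v w := fun v w => by
    have h1 : classInner (fun x => u x * C.fn (nth v) (a x)) (fun x => u x * C.fn (nth w) (a x)) =
        classInner (fun x => C.fn (nth v) (a x)) fun x => C.fn (nth w) (a x) := by
      rw [classInner_def, classInner_def]
      exact congrArg _ (sum_congr rfl fun x _ => by rw [map_mul, mul_mul_mul_comm, S.nrm, one_mul])
    rw [h1, B2.inner_surj ha (fun y => C.fn (nth v) y) fun y => C.fn (nth w) y, inner_Y hI hO,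
      TAB.Glue.ip_eq dat.2.2.2.1, ipF, sum_congr rfl fun e he => by rw [← dat.2.2.2.2 e (mem_range.1 he)]]
    exact mul_div_cancel₀ _ (Nat.cast_ne_zero.2 (by decide))
  have hv : ∀ b ∈ lvA ++ lvB, E62X.Gd l fun x => u x * C.fn (nth b.v) (a x) := fun b hb => by
    obtain ⟨q, hq, rfl⟩ := List.mem_map.1 (lv_eq ▸ hb)
    have h0 := lc_ok
    rw [TAB.Glue.frcM_eq] at h0
    have h1 := allL_spec h0 q hq
    simp only [okX, frL_eq, Bool.and_eq_true, decide_eq_true_eq] at h1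
    refine (congrArg (E62X.Gd l) (funext fun x => ?_)).mp
      ((S.p3 _ (oy_comb (oy_row h) q.2.1) fun t ht => zero_of h1.1.2 (dat.1 t ht)).add
        (S.be _ (oy_comb (oy_row h) q.2.2) fun t ht => zero_of h1.2 (dat.2.1 t ht)))
    rw [Pi.add_apply, ← mul_add, ← fn_add, ← h1.1.1, funext (nth_addL _ _)]
    simp only [Cov2.nth_mulL, dat.2.2.1, mul_comm (nth bL _)]
  have hd : ∀ x, u x * C.fn (nth (lin cd (((lvA ++ lvB).map Lev.v).reverse ++ []))) (a x) =
      if x ∈ center X then ((76532479683774853939200 : ℕ) : ℂ) * l x else 0 := fun x => by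
    rw [cd_ok, Cx.fn]
    split_ifs with h1
    · rw [(S.cen x).1 h1, ← S.val x h1, nth_zero]
      push_cast
      ring
    · obtain ⟨t, ht⟩ := Nat.exists_eq_succ_of_ne_zero fun e => h1 ((S.cen x).2 e)
      rw [ht, nth_succ, nth_eq, List.getD_eq_getElem?_getD, List.getElem?_replicate]
      split_ifs <;> simp
  have hp : ∀ j < 5, pt j = true := fun j hj => by
    interval_cases j
    exacts [pt0, pt1, pt2, pt3, pt4]
  exact ⟨kk_lin H (by decide) (fun v w _ _ => hG v w) hl hv lv_ok one_ne_zero hn (by rw [hc, hn]) hd tr5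
      (dfs_parts (lf := lf) (fun _ _ e => (Bool.and_eq_true_iff.1 e).1) (by norm_num) hp),
    kk_lin H (by decide) (fun v w _ _ => hG v w) hl hv lv_ok one_ne_zero hn (by rw [hc, hn]) hd tr7
      (dfs_parts (lf := lf) (fun _ _ e => (Bool.and_eq_true_iff.1 e).2) (by norm_num) hp)⟩

end Cfsg.Agent.MO.S.E62Q
end

private theorem dce_1969fa995297 : _root_.True := by
  try have : _root_.True := by simp only [_root_.Cfsg.Agent.MO.S.E62Y.Cx.b.eq_1]
  try have : _root_.True := by simp only [_root_.Cfsg.Agent.MO.S.E62Y.gO.eq_1]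
  try have : _root_.True := by simp only [_root_.Cfsg.Agent.TAB.Eng.comb.eq_1]
  try have : _root_.True := by simp only [_root_.Cfsg.Agent.MO.S.E62Y.Cx.fn.eq_1]
  try have : _root_.True := by simp only [_root_.Cfsg.Agent.MO.S.E62Y.gE.eq_1]
  try have : _root_.True := by simp only [_root_.Cfsg.Agent.MO.S.E62X.rowX.eq_1]
  try have : _root_.True := by simp only [_root_.Cfsg.Agent.MO.S.E62Y.Cx.ix.eq_1]
  try have : _root_.True := by simp only [_root_.Cfsg.Agent.MO.S.E62Y.OV.eq_1]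
  try have : _root_.True := by simp only [_root_.Cfsg.Agent.MO.S.E62Y.Cx.pr.eq_1]
  try have : _root_.True := by simp only [_root_.Cfsg.Agent.MO.S.E62Y.Cx.sg.eq_1]
  try have : _root_.True := by simp only [_root_.Cfsg.Agent.MO.S.E62Y.Cx.a.eq_1]
  try have : _root_.True := by simp only [_root_.Cfsg.Agent.MO.S.E62Y.datY.eq_1]
  exact _root_.True.intro
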